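import Mathlib.GroupTheory.PGroup
import Mathlib.GroupTheory.QuotientGroup.Basic
import Mathlib.GroupTheory.SpecificGroups.Cyclic

/-!
# A 2-group with a commutative group of automorphisms regular on its involutions

Such a group is abelian as soon as its centre has exponent at least four (Higman).
-/

set_option autoImplicit false

namespace CfsgLib.Lie.SuzTwo

open Subgroup

universe u v

variable {P : Type u} [Group P] {K : Type v} [CommGroup K]

/-- regular on the involutions -/
def Reg (ρ : K →* MulAut P) : Prop :=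
  ∀ x y : P, x ≠ 1 → x * x = 1 → y ≠ 1 → y * y = 1 → ∃! k : K, ρ k x = y

/-- the commutator used below -/
def cm (x y : P) : P := x * y * x⁻¹ * y⁻¹

theorem cm_eq_one {x y : P} : cm x y = 1 ↔ x * y = y * x := by
  rw [cm, mul_inv_eq_one, mul_inv_eq_iff_eq_mul]

theorem cm_map (f : MulAut P) (x y : P) : f (cm x y) = cm (f x) (f y) := by simp [cm]

theorem cm_mul_right {x y y' : P} (h : cm x y' ∈ center P) : cm x (y * y') = cm x y * cm x y' := by
  rw [show cm x (y * y') = cm x y * (y * cm x y' * y⁻¹) by simp only [cm]; group,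
    mem_center_iff.1 h y, mul_inv_cancel_right]

theorem cm_center_right {x z : P} (h : z ∈ center P) : cm x z = 1 := cm_eq_one.2 (mem_center_iff.1 h x)

theorem cm_swap (x y : P) : cm y x = (cm x y)⁻¹ := by simp only [cm]; group

theorem map_center (f : MulAut P) {z : P} (hz : z ∈ center P) : f z ∈ center P := by
  refine mem_center_iff.2 fun g => ?_
  obtain ⟨g', rfl⟩ := f.surjective g
  rw [← map_mul, ← map_mul, mem_center_iff.1 hz g']

/-- if the squares are central, commutators have order two -/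
theorem cm_sq {x p : P} (hc : cm x p ∈ center P) (hx : x * x ∈ center P) : cm x p * cm x p = 1 := by
  have h1 : cm (x * x) p = 1 := cm_eq_one.2 (mem_center_iff.1 hx p).symm
  rw [show cm (x * x) p = x * cm x p * x⁻¹ * cm x p by simp only [cm]; group,
    mem_center_iff.1 hc x, mul_inv_cancel_right] at h1
  exact h1

/-- a nontrivial finite 2-group has even order -/
theorem two_dvd_card {G : Type*} [Group G] [Finite G] [Nontrivial G] (h : IsPGroup 2 G) :
    2 ∣ Nat.card G := by
  haveI : Fact (Nat.Prime 2) := ⟨Nat.prime_two⟩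
  obtain ⟨n, hn⟩ := IsPGroup.iff_card.1 h
  rcases n with _ | n
  · exact absurd hn (by rw [pow_zero]; exact Finite.one_lt_card.ne')
  · exact hn ▸ dvd_pow_self 2 n.succ_ne_zero

variable [Finite P] (hP : IsPGroup 2 P) {ρ : K →* MulAut P} (hρ : Reg ρ)

include hP hρ in
theorem invol_central {x : P} (hx : x * x = 1) : x ∈ center P := by
  rcases eq_or_ne x 1 with rfl | hx1
  · exact one_mem _
  haveI : Nontrivial P := ⟨x, 1, hx1⟩
  haveI : Fact (Nat.Prime 2) := ⟨Nat.prime_two⟩
  haveI := hP.center_nontrivial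
  obtain ⟨z, hz⟩ := exists_prime_orderOf_dvd_card' 2
    (two_dvd_card (hP.to_subgroup (center P)))
  have hz1 : (z : P) ≠ 1 := fun e => by
    rw [(Subtype.ext e : z = 1), orderOf_one] at hz
    omega
  have hz2 : (z : P) * z = 1 := by
    have := pow_orderOf_eq_one z
    rw [hz, pow_two] at this
    rw [← Subgroup.coe_mul, this, Subgroup.coe_one]
  obtain ⟨k, rfl, -⟩ := hρ _ x hz1 hz2 hx1 hx
  exact map_center _ z.2

/-- the elements killed by `2` -/
def omega (hP : IsPGroup 2 P) (hρ : Reg ρ) : Subgroup P where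
  carrier := {x | x * x = 1}
  one_mem' := one_mul 1
  mul_mem' {a b} ha hb := by
    show a * b * (a * b) = 1
    rw [mul_assoc a b, ← mul_assoc b a b, mem_center_iff.1 (invol_central hP hρ ha) b, mul_assoc a b b,
      show b * b = 1 from hb, mul_one]
    exact ha
  inv_mem' {a} ha := by
    show a⁻¹ * a⁻¹ = 1
    rw [← mul_inv_rev, show a * a = 1 from ha, inv_one]

theorem mem_omega {hP : IsPGroup 2 P} {hρ : Reg ρ} {x : P} : x ∈ omega hP hρ ↔ x * x = 1 := Iff.rfl

instance omega_normal : (omega hP hρ).Normal := ⟨fun x hx g => by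
  rw [mem_center_iff.1 (invol_central hP hρ hx) g, mul_inv_cancel_right]; exact hx⟩

include hP hρ in
/-- the abelian case -/
theorem comm_of_pow {N : ℕ} (hhom : ∀ x y : P, (x * y) ^ N = x ^ N * y ^ N)
    (hker : ∀ x : P, x ^ N = 1 ↔ x ∈ center P) (hinv : ∀ x : P, x ^ N * x ^ N = 1)
    (hcm : ∀ x y : P, cm x y * cm x y = 1) : ∀ x y : P, x * y = y * x := by
  haveI : Fact (Nat.Prime 2) := ⟨Nat.prime_two⟩
  intro x₀ y₀
  rw [← cm_eq_one]
  by_cases hx₀ : x₀ ^ N = 1
  · rw [cm_swap, cm_center_right ((hker x₀).1 hx₀), inv_one]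
  have hc : ∀ x y : P, cm x y ∈ center P := fun x y => invol_central hP hρ (hcm x y)
  have hpow : ∀ (k : K) (x : P), ρ k (x ^ N) = ρ k x ^ N := fun k x => map_pow _ _ _
  have happ : ∀ (a b : K) (x : P), ρ a (ρ b x) = ρ (a * b) x := fun a b x => by
    rw [map_mul, MulAut.mul_apply]
  -- independence of representatives
  have hrep : ∀ y y' : P, y ^ N = y' ^ N → cm x₀ y = cm x₀ y' := by
    intro y y' e
    have h1 : (y'⁻¹ * y) ∈ center P := by
      rw [← hker, hhom, e, inv_pow, inv_mul_cancel]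
    rw [← mul_inv_cancel_left y' y, cm_mul_right (y := y') (hc _ _), cm_center_right h1, mul_one]
  have hsym : ∀ x y : P, cm y x = cm x y := fun x y => by
    rw [cm_swap, inv_eq_iff_mul_eq_one]; exact hcm x y
  -- the function on the automorphisms
  have hreach : ∀ w : P, w ≠ 1 → w * w = 1 → ∃ m : K, ρ m (x₀ ^ N) = w := fun w h1 h2 =>
    (hρ _ _ hx₀ (hinv x₀) h1 h2).exists
  have ecomm : ∀ a b : P, a * a = 1 → a * b = b * a := fun a b ha =>
    (mem_center_iff.1 (invol_central hP hρ ha) b).symm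
  have finv : ∀ t : K, cm x₀ (ρ t⁻¹ x₀) = ρ t⁻¹ (cm x₀ (ρ t x₀)) := fun t => by
    rw [cm_map, happ, inv_mul_cancel, map_one, MulAut.one_apply, hsym]
  have f1 : cm x₀ (ρ 1 x₀) = 1 := by rw [map_one, MulAut.one_apply, cm_eq_one]
  have hsq : ∀ t : K, cm x₀ (ρ (t * t) x₀) = 1 := by
    intro t
    rcases eq_or_ne t 1 with rfl | ht
    · rw [one_mul]; exact f1
    set v := x₀ ^ N with hv
    have hv2 : v * v = 1 := hinv x₀
    have htv : ρ t v * ρ t v = 1 := by rw [← map_mul, hv2, map_one]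
    have hne : ρ t v * v ≠ 1 := by
      intro e
      have e' : ρ t v = v := by
        calc ρ t v = ρ t v * (v * v) := by rw [hv2, mul_one]
          _ = v := by rw [← mul_assoc, e, one_mul]
      exact ht ((hρ v v hx₀ hv2 hx₀ hv2).unique e' (by rw [map_one, MulAut.one_apply]))
    have h2 : ρ t v * v * (ρ t v * v) = 1 := by
      rw [mul_assoc, ← mul_assoc v, ← ecomm (ρ t v) v htv, mul_assoc (ρ t v) v v, hv2, mul_one, htv]
    obtain ⟨s, hs⟩ := hreach _ hne h2
    have hsw : ∀ w : P, w * w = 1 → ρ s w = ρ t w * w := by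
      intro w hw
      rcases eq_or_ne w 1 with rfl | hw1
      · simp
      obtain ⟨m, rfl⟩ := hreach w hw1 hw
      rw [happ, mul_comm s m, ← happ, hs, map_mul (ρ m), happ, mul_comm m t, ← happ]
    have a1 : cm x₀ (ρ s x₀) = cm x₀ (ρ t x₀) := by
      rw [hrep (ρ s x₀) (ρ t x₀ * x₀) (by rw [hhom, ← hpow, ← hpow, hs]),
        cm_mul_right (hc _ _), cm_eq_one.2 rfl, mul_one]
    have hts : ρ (t * s) v = ρ (t * t) v * ρ t v := by
      rw [← happ, hs, map_mul (ρ t), happ]
    have a2 : cm x₀ (ρ (t * s) x₀) = cm x₀ (ρ (t * t) x₀) * cm x₀ (ρ t x₀) := by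
      rw [hrep (ρ (t * s) x₀) (ρ (t * t) x₀ * ρ t x₀) (by rw [hhom, ← hpow, ← hpow, ← hpow, hts]),
        cm_mul_right (hc _ _)]
    have hinvv : ρ (t * s)⁻¹ v = ρ t⁻¹ v * ρ s⁻¹ v := by
      apply (ρ (t * s)).injective
      rw [happ, mul_inv_cancel, map_one, MulAut.one_apply, map_mul (ρ (t * s)),
        happ, happ, mul_inv_cancel_right,
        show t * s * t⁻¹ = s by rw [mul_comm t s, mul_inv_cancel_right],
        hsw v hv2, ecomm (ρ t v) v htv, mul_assoc, htv, mul_one]
    have a3 : cm x₀ (ρ (t * s)⁻¹ x₀) = cm x₀ (ρ t⁻¹ x₀) * cm x₀ (ρ s⁻¹ x₀) := by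
      rw [hrep (ρ (t * s)⁻¹ x₀) (ρ t⁻¹ x₀ * ρ s⁻¹ x₀) (by rw [hhom, ← hpow, ← hpow, ← hpow, hinvv]),
        cm_mul_right (hc _ _)]
    set w := cm x₀ (ρ t x₀) with hw
    rw [finv, finv, finv, a1] at a3
    have hw2 : w * w = 1 := hcm _ _
    have htw : ρ t w * ρ t w = 1 := by rw [← map_mul, hw2, map_one]
    have a4 : cm x₀ (ρ (t * s) x₀) = w := by
      have := congrArg (ρ (t * s)) a3
      rw [happ, mul_inv_cancel, map_one, MulAut.one_apply, map_mul (ρ (t * s)),
        happ, happ, mul_inv_cancel_right,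
        show t * s * t⁻¹ = s by rw [mul_comm t s, mul_inv_cancel_right],
        hsw w hw2, ecomm (ρ t w) w htw, mul_assoc, htw, mul_one] at this
      exact this
    rw [a4] at a2
    exact mul_right_cancel (b := w) (by rw [← a2, one_mul])
  by_cases hy : y₀ ^ N = 1
  · exact cm_center_right ((hker y₀).1 hy)
  obtain ⟨k, hk⟩ := hreach _ hy (hinv y₀)
  rw [hrep y₀ (ρ k x₀) (by rw [← hpow, hk])]
  -- every automorphism in the group is a square
  have hodd : Odd (Nat.card K) := by
    have e : K ≃ {x : P // x ∈ omega hP hρ ∧ x ≠ 1} := Equiv.ofBijective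
      (fun k => ⟨ρ k (x₀ ^ N), mem_omega.2 (by rw [← map_mul, hinv, map_one]),
        fun e => hx₀ ((ρ k).injective (e.trans (map_one _).symm))⟩)
      ⟨fun a b e => (hρ _ _ hx₀ (hinv x₀)
          (fun e' => hx₀ ((ρ a).injective (e'.trans (map_one _).symm)))
          (by rw [← map_mul, hinv, map_one])).unique rfl (congrArg Subtype.val e).symm,
        fun ⟨w, hw, hw1⟩ => (hreach w hw1 hw).imp fun m hm => Subtype.ext hm⟩
    classical
    haveI : Fintype P := Fintype.ofFinite P
    have hcard : Nat.card {x : P // x ∈ omega hP hρ ∧ x ≠ 1} + 1 = Nat.card (omega hP hρ) := by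
      rw [Nat.card_eq_fintype_card, Nat.card_eq_fintype_card, Fintype.card_subtype,
        Fintype.card_subtype]
      rw [← Finset.card_erase_add_one (s := Finset.univ.filter (· ∈ omega hP hρ)) (a := 1)
        (by simp)]
      congr 2
      ext x
      simp [and_comm]
    obtain ⟨n, hn⟩ := IsPGroup.iff_card.1 (hP.to_subgroup (omega hP hρ))
    rw [Nat.card_congr e]
    rcases n with _ | n
    · exfalso
      rw [pow_zero] at hn
      have := (Subgroup.eq_bot_of_card_eq _ hn).le (show x₀ ^ N ∈ omega hP hρ from hinv x₀)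
      exact hx₀ this
    · rw [pow_succ] at hn
      exact ⟨2 ^ n - 1, by have := Nat.one_le_two_pow (n := n); omega⟩
  obtain ⟨j, hj⟩ := hodd
  rw [show k = k ^ (j + 1) * k ^ (j + 1) by
    rw [← pow_add, show j + 1 + (j + 1) = Nat.card K + 1 by omega, pow_succ, pow_card_eq_one',
      one_mul]]
  exact hsq _

omit [Finite P] in
/-- Higman: a centre of exponent at least four forces commutativity -/
theorem comm_of_center_exponent [Finite K] : ∀ (n : ℕ) (P : Type u) [Group P] [Finite P],
    Nat.card P ≤ n → IsPGroup 2 P → ∀ ρ : K →* MulAut P, Reg ρ →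
    ∀ z ∈ center P, z * z ≠ 1 → ∀ x y : P, x * y = y * x := by
  intro n
  induction n with
  | zero => intro P _ _ hn; exact absurd hn (by have := Nat.card_pos (α := P); omega)
  | succ n ih =>
    intro P _ _ hn hP ρ hρ z₀ hz₀ hz₀2
    haveI : Fact (Nat.Prime 2) := ⟨Nat.prime_two⟩
    classical
    -- the exponent of the centre
    obtain ⟨e, he⟩ : ∃ e : ℕ, (∀ z ∈ center P, z ^ 2 ^ (e + 2) = 1) ∧
        ∃ z ∈ center P, z ^ 2 ^ (e + 1) ≠ 1 := by
      obtain ⟨m, hm⟩ := IsPGroup.iff_card.1 hP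
      have hex : ∃ e, ∀ z ∈ center P, z ^ 2 ^ e = 1 := ⟨m, fun z _ => by rw [← hm, pow_card_eq_one']⟩
      have h1 : ¬ ∀ z ∈ center P, z ^ 2 ^ 1 = 1 := fun h => hz₀2 (by rw [← pow_two]; exact h z₀ hz₀)
      have h2 : 2 ≤ Nat.find hex := by
        by_contra hlt
        refine h1 fun z hz => ?_
        obtain ⟨d, hd⟩ := pow_dvd_pow 2 (show Nat.find hex ≤ 1 by omega)
        rw [hd, pow_mul, Nat.find_spec hex z hz, one_pow]
      obtain ⟨e, he⟩ := Nat.exists_eq_add_of_le h2
      refine ⟨e, by rw [add_comm, ← he]; exact Nat.find_spec hex, ?_⟩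
      by_contra hno
      push Not at hno
      exact Nat.find_min hex (show e + 1 < Nat.find hex by omega) hno
    obtain ⟨hZ, zt, hzt, hztop⟩ := he
    have hcz : ∀ a ∈ center P, ∀ b : P, Commute a b := fun a ha b => (mem_center_iff.1 ha b).symm
    have htop2 : zt ^ 2 ^ (e + 1) * zt ^ 2 ^ (e + 1) = 1 := by
      rw [← pow_two, ← pow_mul, ← pow_succ]; exact hZ zt hzt
    have hlift : ∀ x : P, x * x = 1 → ∃ z ∈ center P, z ^ 2 ^ (e + 1) = x := by
      intro x hx
      rcases eq_or_ne x 1 with rfl | hx1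
      · exact ⟨1, one_mem _, one_pow _⟩
      obtain ⟨k, hk, -⟩ := hρ _ x hztop htop2 hx1 hx
      exact ⟨ρ k zt, map_center _ hzt, by rw [← map_pow, hk]⟩
    have hsq : ∀ j, j ≤ e + 1 → ∀ z ∈ center P, z ^ 2 ^ j = 1 → ∃ u ∈ center P, u * u = z := by
      intro j
      induction j with
      | zero => intro _ z _ h; exact ⟨1, one_mem _, by rw [pow_zero, pow_one] at h; simp [h]⟩
      | succ j ihj =>
        intro hj z hz h
        obtain ⟨y, hy, hy'⟩ := hlift (z ^ 2 ^ j) (by rw [← pow_two, ← pow_mul, ← pow_succ]; exact h)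
        set r := y ^ 2 ^ (e - j) with hr
        have hr2 : (r * r) ^ 2 ^ j = z ^ 2 ^ j := by
          rw [hr, ← pow_two, ← pow_mul, ← pow_mul, ← pow_succ', ← pow_add,
            show e - j + (j + 1) = e + 1 by omega, hy']
        obtain ⟨u, hu, hu'⟩ := ihj (by omega) (z * (r * r)⁻¹)
          (mul_mem hz (inv_mem (mul_mem (pow_mem hy _) (pow_mem hy _))))
          (by rw [(hcz z hz _).mul_pow, inv_pow, hr2, mul_inv_cancel])
        refine ⟨u * r, mul_mem hu (pow_mem hy _), ?_⟩
        rw [mul_assoc, ← mul_assoc r u r, ← (hcz u hu r).eq, mul_assoc u r r, ← mul_assoc, hu',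
          inv_mul_cancel_right]
    have hzero : ∀ x : P, x * x = 1 → ∃ u ∈ center P, u * u = x := fun x hx =>
      hsq 1 (by omega) x (invol_central hP hρ hx) (by rw [pow_one, pow_two]; exact hx)
    -- facts about the elements with central square and involutions as commutators
    have hmid : ∀ x : P, x * x ∈ center P →
        (x ^ 2 ^ (e + 2) = 1 → x ∈ center P) ∧ x ^ 2 ^ (e + 2) * x ^ 2 ^ (e + 2) = 1 := by
      intro x hx
      have e1 : x ^ 2 ^ (e + 2) = (x * x) ^ 2 ^ (e + 1) := by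
        rw [← pow_two, ← pow_mul, ← pow_succ']
      refine ⟨fun h => ?_, by rw [e1, ← pow_two, ← pow_mul, ← pow_succ]; exact hZ _ hx⟩
      obtain ⟨u, hu, hu'⟩ := hsq (e + 1) le_rfl _ hx (by rw [← e1]; exact h)
      have h2 : x * u⁻¹ * (x * u⁻¹) = 1 := by
        rw [mul_assoc, ← mul_assoc u⁻¹ x, (hcz _ (inv_mem hu) x).eq, mul_assoc x u⁻¹ u⁻¹, ← mul_assoc,
          ← mul_inv_rev, hu', mul_inv_cancel]
      have := mul_mem (invol_central hP hρ h2) hu
      rwa [inv_mul_cancel_right] at this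
    have hhom : (∀ x y : P, cm x y * cm x y = 1) → ∀ x y : P,
        (x * y) ^ 2 ^ (e + 2) = x ^ 2 ^ (e + 2) * y ^ 2 ^ (e + 2) := by
      intro hcm x y
      have hc : ∀ a b : P, cm a b ∈ center P := fun a b => invol_central hP hρ (hcm a b)
      have hxx : ∀ a : P, a * a ∈ center P := fun a => mem_center_iff.2 fun b => (cm_eq_one.1 (by
        rw [show cm (a * a) b = a * cm a b * a⁻¹ * cm a b by simp only [cm]; group,
          mem_center_iff.1 (hc a b) a, mul_inv_cancel_right, hcm])).symm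
      have e1 : ∀ a : P, a ^ 2 ^ (e + 2) = (a * a) ^ 2 ^ (e + 1) := fun a => by
        rw [← pow_two, ← pow_mul, ← pow_succ']
      have e2 : x * y * (x * y) = x * x * (y * y) * cm y⁻¹ x⁻¹ := by
        have hd : x⁻¹ * y * x * y⁻¹ ∈ center P := by
          have := hc x⁻¹ y
          rwa [cm, inv_inv] at this
        rw [show cm y⁻¹ x⁻¹ = y⁻¹ * (x⁻¹ * y * x * y⁻¹) * y by simp only [cm]; group,
          mem_center_iff.1 hd y⁻¹, inv_mul_cancel_right, mul_assoc (x * x) (y * y),
          mem_center_iff.1 hd (y * y)]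
        group
      rw [e1, e1, e1, e2, (hcz _ (mul_mem (hxx x) (hxx y)) _).mul_pow, (hcz _ (hxx x) _).mul_pow,
        show cm y⁻¹ x⁻¹ ^ 2 ^ (e + 1) = 1 by
          rw [pow_succ', pow_mul, pow_two, hcm, one_pow], mul_one]
    -- a commutative group
    by_cases habel : ∀ x y : P, x * y = y * x
    · exact habel
    -- an element of the second centre
    obtain ⟨w, hwZ, hw2, hwc⟩ : ∃ w : P, w ∉ center P ∧ w * w ∈ center P ∧ ∀ p, cm w p ∈ center P := by
      haveI : Nontrivial (P ⧸ center P) := by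
        rw [QuotientGroup.nontrivial_iff]
        intro h
        exact habel fun x y => mem_center_iff.1 (h ▸ mem_top y) x
      haveI := (hP.to_quotient (center P)).center_nontrivial
      obtain ⟨⟨q, hq⟩, hq2⟩ := exists_prime_orderOf_dvd_card' 2
        (two_dvd_card ((hP.to_quotient (center P)).to_subgroup (center (P ⧸ center P))))
      obtain ⟨w, rfl⟩ := QuotientGroup.mk_surjective q
      rw [Subgroup.orderOf_mk] at hq2
      refine ⟨w, fun h => ?_, ?_, fun p => ?_⟩
      · rw [(QuotientGroup.eq_one_iff w).2 h, orderOf_one] at hq2; omega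
      · rw [← QuotientGroup.eq_one_iff, QuotientGroup.mk_mul, ← pow_two, ← hq2, pow_orderOf_eq_one]
      · rw [← QuotientGroup.eq_one_iff, cm]
        simp only [QuotientGroup.mk_mul, QuotientGroup.mk_inv]
        rw [← mem_center_iff.1 hq (p : P ⧸ center P)]
        group
    -- the quotient by the involutions
    let E := omega hP hρ
    have hinvar : ∀ k : K, E.map (ρ k : P ≃* P).toMonoidHom = E := fun k =>
      Subgroup.eq_of_le_of_card_ge (by
        rintro _ ⟨a, ha, rfl⟩
        exact mem_omega.2 (show ρ k a * ρ k a = 1 by rw [← map_mul, mem_omega.1 ha, map_one]))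
        (Nat.card_congr (Subgroup.equivMapOfInjective _ _ (ρ k).injective).toEquiv).le
    let σ : K →* MulAut (P ⧸ E) :=
      MonoidHom.mk' (fun k => QuotientGroup.congr E E (ρ k) (hinvar k)) fun a b => by
        ext q
        obtain ⟨g, rfl⟩ := QuotientGroup.mk_surjective q
        show (QuotientGroup.mk (ρ (a * b) g) : P ⧸ E) = QuotientGroup.mk (ρ a (ρ b g))
        rw [map_mul]; rfl
    have hlev : ∀ x : P, (QuotientGroup.mk x : P ⧸ E) * QuotientGroup.mk x = 1 →
        x ∈ center P ∧ (x * x) * (x * x) = 1 := by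
      intro x h
      rw [← QuotientGroup.mk_mul, QuotientGroup.eq_one_iff] at h
      refine ⟨(hmid x (invol_central hP hρ h)).1 ?_, h⟩
      rw [pow_succ', pow_succ', ← mul_assoc, pow_mul, show 2 * 2 = 4 from rfl,
        show x ^ 4 = x * x * (x * x) by simp [pow_succ, mul_assoc], mem_omega.1 h, one_pow]
    have hσ : Reg σ := by
      intro qx qy hx1 hx hy1 hy
      obtain ⟨x, rfl⟩ := QuotientGroup.mk_surjective qx
      obtain ⟨y, rfl⟩ := QuotientGroup.mk_surjective qy
      obtain ⟨hxc, hx4⟩ := hlev x hx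
      obtain ⟨hyc, hy4⟩ := hlev y hy
      have hxne : x * x ≠ 1 := fun h => hx1 ((QuotientGroup.eq_one_iff x).2 (mem_omega.2 h))
      have hyne : y * y ≠ 1 := fun h => hy1 ((QuotientGroup.eq_one_iff y).2 (mem_omega.2 h))
      have key : ∀ k : K, σ k x = y ↔ ρ k (x * x) = y * y := fun k => by
        show (QuotientGroup.mk (ρ k x) : P ⧸ E) = QuotientGroup.mk y ↔ _
        rw [QuotientGroup.eq, mem_omega]
        rw [show (ρ k x)⁻¹ * y * ((ρ k x)⁻¹ * y) = (ρ k x)⁻¹ * (y * (ρ k x)⁻¹) * y by group,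
          ← (hcz _ (inv_mem (map_center (ρ k) hxc)) y).eq, map_mul]
        rw [show (ρ k x)⁻¹ * ((ρ k x)⁻¹ * y) * y = (ρ k x * ρ k x)⁻¹ * (y * y) by group,
          inv_mul_eq_one]
      obtain ⟨k, hk, huniq⟩ := hρ _ _ hxne hx4 hyne hy4
      exact ⟨k, (key k).2 hk, fun k' hk' => huniq k' ((key k').1 hk')⟩
    have hlt : Nat.card (P ⧸ E) ≤ n := by
      have h := E.card_eq_card_quotient_mul_card_subgroup
      have hE : 1 < Nat.card E := by
        rw [Finite.one_lt_card_iff_nontrivial]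
        exact ⟨⟨zt ^ 2 ^ (e + 1), htop2⟩, 1, fun h => hztop (congrArg Subtype.val h)⟩
      have : Nat.card (P ⧸ E) * 2 ≤ Nat.card P := h ▸ Nat.mul_le_mul_left _ hE
      have := Nat.card_pos (α := P ⧸ E)
      omega
    have hwE : ∀ p, cm w p ∈ E := fun p => mem_omega.2 (cm_sq (hwc p) hw2)
    have hquot := ih (P ⧸ E) hlt (hP.to_quotient E) σ hσ (QuotientGroup.mk w)
      (mem_center_iff.2 fun q => by
        obtain ⟨p, rfl⟩ := QuotientGroup.mk_surjective q
        have h := (QuotientGroup.eq_one_iff _).2 (hwE p)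
        rw [cm] at h
        simp only [QuotientGroup.mk_mul, QuotientGroup.mk_inv] at h
        exact (mul_inv_eq_iff_eq_mul.1 (mul_inv_eq_one.1 h)).symm)
      (fun h => hwZ (hlev w h).1)
    have hcmall : ∀ x y : P, cm x y * cm x y = 1 := fun x y => by
      have h : (QuotientGroup.mk (cm x y) : P ⧸ E) = 1 := by
        rw [cm]
        simp only [QuotientGroup.mk_mul, QuotientGroup.mk_inv]
        rw [hquot (x : P ⧸ E) y]; group
      exact mem_omega.1 ((QuotientGroup.eq_one_iff _).1 h)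
    have hxx : ∀ a : P, a * a ∈ center P := fun a => mem_center_iff.2 fun b => (cm_eq_one.1 (by
      rw [show cm (a * a) b = a * cm a b * a⁻¹ * cm a b by simp only [cm]; group,
        mem_center_iff.1 (invol_central hP hρ (hcmall a b)) a, mul_inv_cancel_right, hcmall])).symm
    exact comm_of_pow hP hρ (N := 2 ^ (e + 2)) (hhom hcmall)
      (fun x => ⟨(hmid x (hxx x)).1, hZ x⟩) (fun x => (hmid x (hxx x)).2) hcmall

end CfsgLib.Lie.SuzTwo
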